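import Cfsg.Agent.H70.Lim.BridgeE

/-!
# S5242, I2: the cocycle condition (helper70)
-/

set_option autoImplicit false

namespace Cfsg.Agent.H70.Lim

open Cfsg Cfsg.FusionSystem Cfsg.Agent.H752 MulAction

universe v

variable {L : Type v} [Group L] {S A : Subgroup L} {F : FusionSystem S}

theorem coc {p : ℕ} [Fact p.Prime] [Finite L] (hS : IsPGroup p S) (hF : F.IsSaturated p)
    (hA : F.IsCentral A) (hAL : A ≤ Subgroup.center L)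
    (h1 : ∀ (P : Subgroup L) (f : L → L), A ≤ P → Mp F P f → ∃ l : L, ∀ s ∈ P, (l * s * l⁻¹)⁻¹ * f s ∈ A)
    {x y z : L ⧸ S} {e₁ e₂ e₃ : L → L} (g1 : Good F A x y e₁) (g2 : Good F A y z e₂) (g3 : Good F A x z e₃) :
    ∃ c : L, (∀ u ∈ stabilizer L x ⊓ stabilizer L y ⊓ stabilizer L z, c * u * c⁻¹ * u⁻¹ ∈ A) ∧
      ∀ u ∈ stabilizer L x ⊓ stabilizer L y ⊓ stabilizer L z, e₁ u * e₂ u = e₃ u * (c * u * c⁻¹ * u⁻¹) := by
  obtain ⟨r, hr⟩ := QuotientGroup.mk_surjective x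
  obtain ⟨r', hr'⟩ := QuotientGroup.mk_surjective y
  obtain ⟨r'', hr''⟩ := QuotientGroup.mk_surjective z
  set P : Subgroup L := stabilizer L x ⊓ stabilizer L y ⊓ stabilizer L z with hP
  have m1 := g1.2 r r' hr hr'
  have m2 := g2.2 r' r'' hr' hr''
  have m3 := g3.2 r r'' hr hr''
  set f₁ : L → L := fun s => r'⁻¹ * (r * s * r⁻¹) * r' * e₁ (r * s * r⁻¹) with hf₁
  set f₂ : L → L := fun s => r''⁻¹ * (r' * s * r'⁻¹) * r'' * e₂ (r' * s * r'⁻¹) with hf₂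
  set f₃ : L → L := fun s => r''⁻¹ * (r * s * r⁻¹) * r'' * e₃ (r * s * r⁻¹) with hf₃
  have hP1 : P ≤ st2 x y := inf_le_left
  have hP2 : P ≤ st2 y z := fun u hu => ⟨hu.1.2, hu.2⟩
  have hP3 : P ≤ st2 x z := fun u hu => ⟨hu.1.1, hu.2⟩
  have hAx := A_le_stab hA.1 hAL x
  have hAy := A_le_stab hA.1 hAL y
  have hAz := A_le_stab hA.1 hAL z
  have hAP : A ≤ P := le_inf (le_inf hAx hAy) hAz
  have hAQ : A ≤ cm r P := le_cm hAL hAP r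
  have d1 : ∀ u ∈ P, e₁ u ∈ A := fun u hu => g1.1 u (hP1 hu)
  have d2 : ∀ u ∈ P, e₂ u ∈ A := fun u hu => g2.1 u (hP2 hu)
  have d3 : ∀ u ∈ P, e₃ u ∈ A := fun u hu => g3.1 u (hP3 hu)
  have m3' : Mp F (cm r P) f₃ := m3.res (fun s hs => hP3 hs)
  obtain ⟨T, hT, -, -⟩ := m3'.exists_image le_rfl
  obtain ⟨g, hg, hg1, hg2⟩ := m3'.exists_symm le_rfl hT
  let d : L → L := fun s => e₁ (r * s * r⁻¹) * e₂ (r * s * r⁻¹) * (e₃ (r * s * r⁻¹))⁻¹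
  have hd : ∀ s ∈ cm r P, d s ∈ A := fun s hs => mul_mem (mul_mem (d1 _ hs) (d2 _ hs)) (inv_mem (d3 _ hs))
  have key : ∀ s ∈ cm r P, r' * f₁ s * r'⁻¹ = r * s * r⁻¹ * e₁ (r * s * r⁻¹) := by
    intro s hs
    have hs' : r * s * r⁻¹ ∈ P := hs
    have h3 := cen hAL (d1 _ hs') r'⁻¹
    have h4 : r' * f₁ s * r'⁻¹ = r * s * r⁻¹ * (r' * (e₁ (r * s * r⁻¹) * r'⁻¹)) := by
      simp only [hf₁]
      generalize e₁ (r * s * r⁻¹) = a
      group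
    rw [h4, ← h3]
    group
  have key2 : ∀ s ∈ cm r P, f₂ (f₁ s) = f₃ (s * d s) := by
    intro s hs
    have hs' : r * s * r⁻¹ ∈ P := hs
    have h5 : f₂ (f₁ s) = r''⁻¹ * (r' * f₁ s * r'⁻¹) * r'' * e₂ (r' * f₁ s * r'⁻¹) := rfl
    have h6 := cen hAL (d1 _ hs') r''
    rw [mp_mul_fix hA m3' hAQ hs (hd s hs), h5, key s hs, g2.mul hAL (hP2 hs') (hP2 (hAP (d1 _ hs'))),
      g2.fixA hA hAL (d1 _ hs'), mul_one]
    simp only [hf₃, d]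
    have h7 := cen hAL (d1 _ hs')
    have h8 := cen hAL (d3 _ hs')
    generalize e₁ (r * s * r⁻¹) = a at *
    generalize e₂ (r * s * r⁻¹) = b at *
    generalize e₃ (r * s * r⁻¹) = c at *
    generalize r * s * r⁻¹ = u at *
    calc r''⁻¹ * (u * a) * r'' * b = r''⁻¹ * u * (a * r'') * b := by group
      _ = r''⁻¹ * u * r'' * (a * b) := by rw [← h6]; group
      _ = r''⁻¹ * u * r'' * ((a * b) * c * c⁻¹) := by group
      _ = _ := by rw [h8 (a * b)]; group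
  have hf1Q : ∀ s ∈ cm r P, f₁ s ∈ cm r' (st2 y z) := by
    intro s hs
    rw [mem_cm, key s hs]
    exact hP2 (mul_mem hs (hAP (d1 _ hs)))
  have hm : Mp F (cm r P) fun s => s * d s := by
    refine (((m1.res (R := cm r P) (fun s hs => hP1 hs)).comp m2 hf1Q).comp hg (fun s hs => ?_)).congr fun s hs => ?_
    · rw [key2 s hs]
      exact (hT _).2 ⟨_, mul_mem hs (hAQ (hd s hs)), rfl⟩
    · rw [key2 s hs, hg1 _ (mul_mem hs (hAQ (hd s hs)))]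
  obtain ⟨c, hc⟩ := exists_conj_of_mp hS hF hA hAL h1 hAQ hd hm
  have hfin : ∀ u ∈ P, r * c * r⁻¹ * u * (r * c * r⁻¹)⁻¹ * u⁻¹ = e₁ u * e₂ u * (e₃ u)⁻¹ := by
    intro u hu
    have e0 : r * (r⁻¹ * u * r) * r⁻¹ = u := by group
    have hs : r⁻¹ * u * r ∈ cm r P := by rw [mem_cm, e0]; exact hu
    have h5 := hc _ hs
    have h6 : r * c * r⁻¹ * u * (r * c * r⁻¹)⁻¹ * u⁻¹ = r * (c * (r⁻¹ * u * r) * c⁻¹) * r⁻¹ * u⁻¹ := by group
    rw [h6, ← h5]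
    have h7 : d (r⁻¹ * u * r) = e₁ u * e₂ u * (e₃ u)⁻¹ := by simp only [d, e0]
    rw [h7]
    have h8 : e₁ u * e₂ u * (e₃ u)⁻¹ ∈ A := mul_mem (mul_mem (d1 _ hu) (d2 _ hu)) (inv_mem (d3 _ hu))
    have h9 := cen hAL h8
    generalize e₁ u * e₂ u * (e₃ u)⁻¹ = a at *
    calc r * (r⁻¹ * u * r * a) * r⁻¹ * u⁻¹ = u * r * (a * (r⁻¹ * u⁻¹)) := by group
      _ = _ := by rw [← h9 (r⁻¹ * u⁻¹)]; group
  refine ⟨r * c * r⁻¹, fun u hu => ?_, fun u hu => ?_⟩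
  · rw [hfin u hu]
    exact mul_mem (mul_mem (d1 _ hu) (d2 _ hu)) (inv_mem (d3 _ hu))
  · rw [hfin u hu, cen hAL (mul_mem (mul_mem (d1 _ hu) (d2 _ hu)) (inv_mem (d3 _ hu))) (e₃ u), inv_mul_cancel_right]

end Cfsg.Agent.H70.Lim
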