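import Cfsg.Agent.H70.Lim.BridgeK

/-!
# S5242, I2: the comparison cocycle (helper70)

`Good F A x y e` : the map `α_x u ↦ α_y(u) e(u)` (`u ∈ L_x ∩ L_y`, `α_x` conjugation into `S` by a representative of the
coset `x`) belongs to `F`.
-/

set_option autoImplicit false

namespace Cfsg.Agent.H70.Lim

open Cfsg Cfsg.FusionSystem Cfsg.Agent.H752 MulAction

universe v

variable {L : Type v} [Group L] {S A : Subgroup L} {F : FusionSystem S}

theorem mem_stab_coe {r u : L} : u ∈ stabilizer L (r : L ⧸ S) ↔ r⁻¹ * u * r ∈ S := by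
  rw [mem_stabilizer_iff]
  change ((u * r : L) : L ⧸ S) = r ↔ _
  rw [eq_comm, QuotientGroup.eq]
  have : r⁻¹ * (u * r) = r⁻¹ * u * r := by group
  rw [this]

/-- the stabilizer of a pair -/
abbrev st2 (x y : L ⧸ S) : Subgroup L := stabilizer L x ⊓ stabilizer L y

/-- the stabilizer of a pair, read in `S` -/
abbrev cm (r : L) (P : Subgroup L) : Subgroup L := P.comap (MulAut.conj r).toMonoidHom

theorem mem_cm {r s : L} {P : Subgroup L} : s ∈ cm r P ↔ r * s * r⁻¹ ∈ P := Iff.rfl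

/-- the comparison function -/
def Good (F : FusionSystem S) (A : Subgroup L) (x y : L ⧸ S) (e : L → L) : Prop :=
  (∀ u ∈ st2 x y, e u ∈ A) ∧ ∀ r r' : L, (r : L ⧸ S) = x → (r' : L ⧸ S) = y →
    Mp F (cm r (st2 x y)) (fun s => r'⁻¹ * (r * s * r⁻¹) * r' * e (r * s * r⁻¹))

theorem cm_le {r : L} {x : L ⧸ S} (hr : (r : L ⧸ S) = x) {P : Subgroup L} (hP : P ≤ stabilizer L x) : cm r P ≤ S := by
  intro s hs
  have h1 := hP (mem_cm.1 hs)
  rw [← hr, mem_stab_coe] at h1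
  have : r⁻¹ * (r * s * r⁻¹) * r = s := by group
  rwa [this] at h1

theorem A_le_stab (hAS : A ≤ S) (hAL : A ≤ Subgroup.center L) (x : L ⧸ S) : A ≤ stabilizer L x := by
  intro a ha
  obtain ⟨r, rfl⟩ := QuotientGroup.mk_surjective x
  rw [mem_stab_coe, mul_assoc, ← cen hAL ha r, inv_mul_cancel_left]
  exact hAS ha

theorem conj_A (hAL : A ≤ Subgroup.center L) {a : L} (ha : a ∈ A) (r : L) : r * a * r⁻¹ = a := by
  rw [cen hAL ha r, mul_inv_cancel_right]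

theorem le_cm (hAL : A ≤ Subgroup.center L) {P : Subgroup L} (hP : A ≤ P) (r : L) : A ≤ cm r P := by
  intro a ha
  rw [mem_cm, conj_A hAL ha]
  exact hP ha

theorem good_of_one (hAL : A ≤ Subgroup.center L) {x y : L ⧸ S} {e : L → L} (he : ∀ u ∈ st2 x y, e u ∈ A)
    {r₀ r₀' : L} (h : (r₀ : L ⧸ S) = x) (h' : (r₀' : L ⧸ S) = y)
    (hm : Mp F (cm r₀ (st2 x y)) (fun s => r₀'⁻¹ * (r₀ * s * r₀⁻¹) * r₀' * e (r₀ * s * r₀⁻¹))) : Good F A x y e := by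
  refine ⟨he, fun r r' hr hr' => ?_⟩
  have ht : r₀⁻¹ * r ∈ S := QuotientGroup.eq.1 (h.trans hr.symm)
  have ht' : r₀'⁻¹ * r' ∈ S := QuotientGroup.eq.1 (h'.trans hr'.symm)
  have e0 : ∀ s, r₀ * (r₀⁻¹ * r * s * (r₀⁻¹ * r)⁻¹) * r₀⁻¹ = r * s * r⁻¹ := fun s => by group
  have h1 : Mp F (cm r (st2 x y)) (fun s => r₀⁻¹ * r * s * (r₀⁻¹ * r)⁻¹) := mp_conj F (cm_le hr inf_le_left) ht
  have h2 := h1.comp hm (fun s hs => by rw [mem_cm, e0]; exact hs)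
  have h3 := h2.comp (mp_conj F le_rfl (inv_mem ht')) (fun s hs => h2.mem hs)
  refine h3.congr fun s hs => ?_
  rw [e0]
  have h4 := cen hAL (he _ (mem_cm.1 hs)) ((r₀'⁻¹ * r')⁻¹⁻¹)
  generalize e (r * s * r⁻¹) = a at h4
  generalize r * s * r⁻¹ = u
  calc r'⁻¹ * u * r' * a = (r₀'⁻¹ * r')⁻¹ * (r₀'⁻¹ * u * r₀') * ((r₀'⁻¹ * r')⁻¹⁻¹ * a) := by group
    _ = _ := by rw [h4]; group

theorem exists_good (hAS : A ≤ S) (hAL : A ≤ Subgroup.center L)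
    (h2 : ∀ P : Subgroup L, P ≤ S → A ≤ P → ∀ l : L, (∀ s ∈ P, l * s * l⁻¹ ∈ S) →
      ∃ f, Mp F P f ∧ ∀ s ∈ P, (l * s * l⁻¹)⁻¹ * f s ∈ A) (x y : L ⧸ S) : ∃ e, Good F A x y e := by
  obtain ⟨r, rfl⟩ := QuotientGroup.mk_surjective x
  obtain ⟨r', rfl⟩ := QuotientGroup.mk_surjective y
  have e0 : ∀ s, r'⁻¹ * r * s * (r'⁻¹ * r)⁻¹ = r'⁻¹ * (r * s * r⁻¹) * r' := fun s => by group
  obtain ⟨f, hf, hf2⟩ := h2 (cm r (st2 (r : L ⧸ S) (r' : L ⧸ S))) (cm_le rfl inf_le_left)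
    (le_cm hAL (le_inf (A_le_stab hAS hAL _) (A_le_stab hAS hAL _)) r) (r'⁻¹ * r) (fun s hs => by
      rw [e0]
      exact mem_stab_coe.1 (mem_cm.1 hs).2)
  refine ⟨fun u => (r'⁻¹ * u * r')⁻¹ * f (r⁻¹ * u * r), good_of_one hAL (fun u hu => ?_) rfl rfl ?_⟩
  · have h3 : r⁻¹ * u * r ∈ cm r (st2 (r : L ⧸ S) (r' : L ⧸ S)) := by
      rw [mem_cm]
      have : r * (r⁻¹ * u * r) * r⁻¹ = u := by group
      rw [this]
      exact hu
    have h4 := hf2 _ h3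
    rw [e0] at h4
    have h5 : r * (r⁻¹ * u * r) * r⁻¹ = u := by group
    rwa [h5] at h4
  · refine hf.congr fun s _ => ?_
    have h5 : r⁻¹ * (r * s * r⁻¹) * r = s := by group
    rw [h5]
    group

theorem mem_stab_smul {g u : L} {x : L ⧸ S} : u ∈ stabilizer L (g • x) ↔ g⁻¹ * u * g ∈ stabilizer L x := by
  rw [mem_stabilizer_iff, mem_stabilizer_iff, mul_smul, mul_smul, inv_smul_eq_iff]

theorem Good.smul {x y : L ⧸ S} {e : L → L} (h : Good F A x y e) (g : L) :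
    Good F A (g • x) (g • y) (fun u => e (g⁻¹ * u * g)) := by
  refine ⟨fun u hu => h.1 _ ⟨mem_stab_smul.1 hu.1, mem_stab_smul.1 hu.2⟩, fun r r' hr hr' => ?_⟩
  have h1 := h.2 (g⁻¹ * r) (g⁻¹ * r') (by
    change g⁻¹ • (r : L ⧸ S) = x
    rw [hr, inv_smul_smul]) (by
    change g⁻¹ • (r' : L ⧸ S) = y
    rw [hr', inv_smul_smul])
  have e0 : ∀ s, g⁻¹ * r * s * (g⁻¹ * r)⁻¹ = g⁻¹ * (r * s * r⁻¹) * g := fun s => by group
  refine (h1.res fun s hs => ?_).congr fun s _ => ?_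
  · rw [mem_cm, e0]
    exact ⟨mem_stab_smul.1 (mem_cm.1 hs).1, mem_stab_smul.1 (mem_cm.1 hs).2⟩
  · rw [e0]
    congr 1
    group

theorem Good.fixA (hA : F.IsCentral A) (hAL : A ≤ Subgroup.center L) {x y : L ⧸ S} {e : L → L} (h : Good F A x y e)
    {a : L} (ha : a ∈ A) : e a = 1 := by
  obtain ⟨r, hr⟩ := QuotientGroup.mk_surjective x
  obtain ⟨r', hr'⟩ := QuotientGroup.mk_surjective y
  have h1 := mp_fix hA (h.2 r r' hr hr') (le_cm hAL (le_inf (A_le_stab hA.1 hAL _) (A_le_stab hA.1 hAL _)) r) ha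
  have h2 : r'⁻¹ * a * r' = a := by
    have := conj_A hAL ha r'⁻¹
    rwa [inv_inv] at this
  rw [conj_A hAL ha, h2] at h1
  exact mul_eq_left.1 h1

theorem Good.mul (hAL : A ≤ Subgroup.center L) {x y : L ⧸ S} {e : L → L} (h : Good F A x y e)
    {u w : L} (hu : u ∈ st2 x y) (hw : w ∈ st2 x y) : e (u * w) = e u * e w := by
  obtain ⟨r, hr⟩ := QuotientGroup.mk_surjective x
  obtain ⟨r', hr'⟩ := QuotientGroup.mk_surjective y
  have e0 : ∀ u, r * (r⁻¹ * u * r) * r⁻¹ = u := fun u => by group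
  have h1 := (h.2 r r' hr hr').mul (x := r⁻¹ * u * r) (y := r⁻¹ * w * r) (by rw [mem_cm, e0]; exact hu)
    (by rw [mem_cm, e0]; exact hw)
  have e1 : r * (r⁻¹ * u * r * (r⁻¹ * w * r)) * r⁻¹ = u * w := by group
  rw [e1, e0, e0] at h1
  have h2 := cen hAL (h.1 u hu) (r'⁻¹ * w * r')
  have h3 : r'⁻¹ * u * r' * e u * (r'⁻¹ * w * r' * e w) = r'⁻¹ * (u * w) * r' * (e u * e w) := by
    rw [← mul_assoc, mul_assoc _ (e u), ← h2]
    group
  rw [h3] at h1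
  exact mul_left_cancel h1

/-- the equivariant choice -/
theorem exists_e (hA : F.IsCentral A) (hAL : A ≤ Subgroup.center L)
    (h2 : ∀ P : Subgroup L, P ≤ S → A ≤ P → ∀ l : L, (∀ s ∈ P, l * s * l⁻¹ ∈ S) →
      ∃ f, Mp F P f ∧ ∀ s ∈ P, (l * s * l⁻¹)⁻¹ * f s ∈ A) :
    ∃ e : L ⧸ S → L ⧸ S → L → L, (∀ x y, Good F A x y (e x y)) ∧
      ∀ (l : L) x y, ∀ u ∈ st2 x y, e (l • x) (l • y) (l * u * l⁻¹) = e x y u := by
  classical
  have h3 : ∀ q : (L ⧸ S) × (L ⧸ S), ∃ e, Good F A q.1 q.2 e := fun q => exists_good hA.1 hAL h2 q.1 q.2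
  choose e₀ he₀ using h3
  let rep : (L ⧸ S) × (L ⧸ S) → (L ⧸ S) × (L ⧸ S) := fun q =>
    Quotient.out (Quotient.mk (orbitRel L ((L ⧸ S) × (L ⧸ S))) q)
  have hrep : ∀ q, ∃ g : L, g • rep q = q := by
    intro q
    have h4 : (orbitRel L ((L ⧸ S) × (L ⧸ S))) (rep q) q := Quotient.mk_out (s := orbitRel L ((L ⧸ S) × (L ⧸ S))) q
    obtain ⟨g, hg⟩ := (orbitRel_apply.1 h4 : rep q ∈ orbit L q)
    exact ⟨g⁻¹, by rw [← hg]; exact inv_smul_smul g q⟩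
  choose g hg using hrep
  have hrepl : ∀ (l : L) q, rep (l • q) = rep q := by
    intro l q
    have h4 : Quotient.mk (orbitRel L ((L ⧸ S) × (L ⧸ S))) (l • q) = Quotient.mk (orbitRel L ((L ⧸ S) × (L ⧸ S))) q :=
      Quotient.sound (s := orbitRel L ((L ⧸ S) × (L ⧸ S))) (orbitRel_apply.2 ⟨l, rfl⟩)
    change Quotient.out _ = Quotient.out _
    rw [h4]
  refine ⟨fun x y u => e₀ (rep (x, y)) ((g (x, y))⁻¹ * u * g (x, y)), fun x y => ?_, fun l x y u hu => ?_⟩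
  · have h4 := (he₀ (rep (x, y))).smul (g (x, y))
    have h5 : g (x, y) • (rep (x, y)).1 = x := congrArg Prod.fst (hg (x, y))
    have h6 : g (x, y) • (rep (x, y)).2 = y := congrArg Prod.snd (hg (x, y))
    rw [h5, h6] at h4
    exact h4
  · have hl : ((l • x, l • y) : (L ⧸ S) × (L ⧸ S)) = l • (x, y) := rfl
    dsimp only
    rw [hl, hrepl l (x, y)]
    have hgl := hg (l • (x, y))
    rw [hrepl] at hgl
    have hg0 := hg (x, y)
    set q := rep (x, y) with hq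
    set a := g (x, y) with ha
    set b := g (l • (x, y)) with hb
    -- `h = a⁻¹ l⁻¹ b` stabilizes `q`
    have hh : (a⁻¹ * l⁻¹ * b) • q = q := by
      rw [mul_smul, mul_smul, hgl, inv_smul_smul]
      rw [inv_smul_eq_iff]
      exact hg0.symm
    have hh2 : a⁻¹ * l⁻¹ * b ∈ st2 q.1 q.2 :=
      ⟨mem_stabilizer_iff.2 (congrArg Prod.fst hh), mem_stabilizer_iff.2 (congrArg Prod.snd hh)⟩
    have hu2 : a⁻¹ * u * a ∈ st2 q.1 q.2 := by
      have hx : x = a • q.1 := (congrArg Prod.fst hg0).symm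
      have hy : y = a • q.2 := (congrArg Prod.snd hg0).symm
      rw [hx, hy] at hu
      exact ⟨mem_stab_smul.1 hu.1, mem_stab_smul.1 hu.2⟩
    have e1 : b⁻¹ * (l * u * l⁻¹) * b = (a⁻¹ * l⁻¹ * b)⁻¹ * ((a⁻¹ * u * a) * (a⁻¹ * l⁻¹ * b)) := by group
    have hG := he₀ q
    rw [e1, hG.mul hAL (inv_mem hh2) (mul_mem hu2 hh2), hG.mul hAL hu2 hh2, cen hAL (hG.1 _ hh2), ← mul_assoc,
      ← hG.mul hAL (inv_mem hh2) hh2, inv_mul_cancel, hG.fixA hA hAL (one_mem A), one_mul]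

end Cfsg.Agent.H70.Lim
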