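import Cfsg.Agent.H752.Mp

/-!
# S5242, I2: maps of a fusion system trivial modulo a central subgroup (helper70)

`F` a saturated fusion system over a Sylow subgroup `S` of `L`, `A ≤ Z(L)` central in `F`; `F` and `L` agree modulo `A`.

* `Mp.fix`, `Mp.ext_central`;
* `exists_conj_of_mp` : a map `s ↦ s d(s)`, `d(s) ∈ A`, of `F` is conjugation by an element of `L`;
* `mp_of_conj` : the converse.
-/

set_option autoImplicit false

namespace Cfsg.Agent.H70.Lim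

open Cfsg Cfsg.FusionSystem Cfsg.Agent.H752

universe v

variable {L : Type v} [Group L] {S A : Subgroup L} {F : FusionSystem S}

theorem mp_ext_central (hA : F.IsCentral A) {P : Subgroup L} {f : L → L} (hf : Mp F P f) :
    ∃ g, Mp F (P ⊔ A) g ∧ (∀ x ∈ P, g x = f x) ∧ ∀ a ∈ A, g a = a := by
  obtain ⟨φ, hφ, h1⟩ := hf
  obtain ⟨ψ, hψ, h2, h3⟩ := hA.2 P φ hφ
  refine ⟨ex ψ, mp_ex hψ, fun x hx => ?_, fun a ha => ?_⟩
  · rw [ex_apply _ ((le_sup_left : P ≤ P ⊔ A) hx), ← h1 x hx]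
    exact h2 ⟨x, hx⟩
  · rw [ex_apply _ ((le_sup_right : A ≤ P ⊔ A) ha)]
    exact h3 ⟨a, ha⟩

theorem mp_fix (hA : F.IsCentral A) {P : Subgroup L} {f : L → L} (hf : Mp F P f) (hAP : A ≤ P) {a : L} (ha : a ∈ A) :
    f a = a := by
  obtain ⟨g, -, h2, h3⟩ := mp_ext_central hA hf
  rw [← h2 a (hAP ha), h3 a ha]

theorem cen {A : Subgroup L} (hAL : A ≤ Subgroup.center L) {a : L} (ha : a ∈ A) (x : L) : x * a = a * x :=
  Subgroup.mem_center_iff.1 (hAL ha) x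

/-- values of `d` and products -/
theorem mp_mul_fix (hA : F.IsCentral A) {P : Subgroup L} {f : L → L} (hf : Mp F P f) (hAP : A ≤ P) {x a : L}
    (hx : x ∈ P) (ha : a ∈ A) : f (x * a) = f x * a := by
  rw [hf.mul hx (hAP ha), mp_fix hA hf hAP ha]

/-- **automorphisms trivial modulo `A`, from `F` to `L`** -/
theorem exists_conj_of_mp {p : ℕ} [Fact p.Prime] [Finite L] (hS : IsPGroup p S) (hF : F.IsSaturated p)
    (hA : F.IsCentral A) (hAL : A ≤ Subgroup.center L)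
    (h1 : ∀ (P : Subgroup L) (f : L → L), A ≤ P → Mp F P f → ∃ l : L, ∀ s ∈ P, (l * s * l⁻¹)⁻¹ * f s ∈ A)
    {P : Subgroup L} (hAP : A ≤ P) {d : L → L} (hd : ∀ s ∈ P, d s ∈ A) (hf : Mp F P fun s => s * d s) :
    ∃ c : L, ∀ s ∈ P, s * d s = c * s * c⁻¹ := by
  classical
  have hPS := hf.le
  obtain ⟨Q, ⟨χ, hχ, hχQ⟩, hQa, -⟩ := hF P hPS
  have hX : Mp F P (ex χ) := mp_ex hχ
  have hQ : ∀ y, y ∈ Q ↔ ∃ x ∈ P, ex χ x = y := by
    intro y
    rw [← hχQ]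
    constructor
    · rintro ⟨x, rfl⟩
      exact ⟨x, x.2, ex_coe _ x⟩
    · rintro ⟨x, hx, rfl⟩
      exact ⟨⟨x, hx⟩, (ex_apply _ hx).symm⟩
  obtain ⟨g, hg, hg1, hg2⟩ := hX.exists_symm le_rfl hQ
  have hAQ : A ≤ Q := fun a ha => (hQ a).2 ⟨a, hAP ha, mp_fix hA hX hAP ha⟩
  have hdQ : ∀ y ∈ Q, d (g y) ∈ A := fun y hy => hd _ (hg2 y hy).1
  have hk : Mp F Q fun y => y * d (g y) := by
    have h2 := (hg.comp hf (fun y hy => (hg2 y hy).1)).comp hX (fun y hy =>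
      mul_mem (hg2 y hy).1 (hAP (hdQ y hy)))
    refine h2.congr fun y hy => ?_
    rw [mp_mul_fix hA hX hAP (hg2 y hy).1 (hdQ y hy), (hg2 y hy).2]
  have hfinQ : Finite Q := inferInstance
  obtain ⟨α, hα, hα'⟩ := hk.exists_aut fun y hy => mul_mem hy (hAQ (hdQ y hy))
  have hQS : Q ≤ S := hQa.1
  -- the normal `p`-subgroup
  have hfixα : ∀ β ∈ F.autGroup Q, ∀ (a : L) (ha : a ∈ A), ((β ⟨a, hAQ ha⟩ : Q) : L) = a := by
    intro β hβ a ha
    have h3 := (mp_iff_autGroup hQS β).1 hβ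
    have h4 := mp_fix hA h3 hAQ ha
    rwa [ex_apply _ (hAQ ha)] at h4
  let N : Subgroup (MulAut Q) :=
    { carrier := {β | β ∈ F.autGroup Q ∧ ∀ y : Q, (y : L)⁻¹ * (β y : Q) ∈ A}
      one_mem' := ⟨one_mem _, fun y => by
        rw [MulAut.one_apply, inv_mul_cancel]; exact one_mem A⟩
      mul_mem' := by
        rintro a b ⟨ha, ha'⟩ ⟨hb, hb'⟩
        refine ⟨mul_mem ha hb, fun y => ?_⟩
        have h3 : (y : L)⁻¹ * ((a * b) y : Q) = ((y : L)⁻¹ * (b y : Q)) * (((b y : Q) : L)⁻¹ * (a (b y) : Q)) := by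
          rw [MulAut.mul_apply]; group
        rw [h3]
        exact mul_mem (hb' _) (ha' _)
      inv_mem' := by
        rintro a ⟨ha, ha'⟩
        refine ⟨inv_mem ha, fun y => ?_⟩
        have h3 := ha' (a⁻¹ y)
        rw [MulAut.apply_inv_self] at h3
        have h4 := inv_mem h3
        rw [mul_inv_rev, inv_inv] at h4
        exact h4 }
  have hval : ∀ β ∈ N, ∀ y : Q, ∃ (a : L) (ha : a ∈ A), β y = y * ⟨a, hAQ ha⟩ := by
    intro β hβ y
    refine ⟨(y : L)⁻¹ * (β y : Q), hβ.2 y, Subtype.ext ?_⟩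
    change ((β y : Q) : L) = y * ((y : L)⁻¹ * (β y : Q))
    group
  have hN1 : N ≤ F.autGroup Q := fun β hβ => hβ.1
  have hN2 : ∀ a ∈ F.autGroup Q, ∀ k ∈ N, a * k * a⁻¹ ∈ N := by
    intro a ha k hk'
    refine ⟨mul_mem (mul_mem ha hk'.1) (inv_mem ha), fun y => ?_⟩
    obtain ⟨z, hz, h3⟩ := hval k hk' (a⁻¹ y)
    have h4 : ((a * k * a⁻¹) y : Q) = y * ⟨z, hAQ hz⟩ := by
      rw [MulAut.mul_apply, MulAut.mul_apply, h3, map_mul, MulAut.apply_inv_self]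
      congr 1
      exact Subtype.ext (hfixα a ha z hz)
    rw [h4]
    change (y : L)⁻¹ * (y * z) ∈ A
    rw [inv_mul_cancel_left]
    exact hz
  have hAp : IsPGroup p A := hS.to_le hA.1
  have hN3 : IsPGroup p N := by
    rintro ⟨β, hβ⟩
    have hpow : ∀ (y : Q) (a : L) (ha : a ∈ A), β y = y * ⟨a, hAQ ha⟩ → ∀ n : ℕ, (β ^ n) y = y * ⟨a, hAQ ha⟩ ^ n := by
      intro y a ha h3 n
      induction n with
      | zero => rw [pow_zero, pow_zero, mul_one, MulAut.one_apply]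
      | succ n ih =>
        have h4 : β (⟨a, hAQ ha⟩ : Q) = ⟨a, hAQ ha⟩ := Subtype.ext (hfixα β hβ.1 a ha)
        rw [pow_succ', MulAut.mul_apply, ih, map_mul, h3, map_pow, h4, mul_assoc, ← pow_succ']
    obtain ⟨m, hm⟩ := IsPGroup.iff_card.1 hAp
    refine ⟨m, Subtype.ext ?_⟩
    change β ^ p ^ m = 1
    ext y
    obtain ⟨a, ha, h3⟩ := hval β hβ y
    rw [hpow y a ha h3, ← hm]
    have h4 : (⟨a, ha⟩ : A) ^ Nat.card A = 1 := pow_card_eq_one'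
    have h5 : a ^ Nat.card A = 1 := congrArg Subtype.val h4
    change (y : L) * a ^ Nat.card A = y
    rw [h5, mul_one]
  have hαN : α ∈ N := ⟨hα, fun y => by
    rw [← hα' y y.2]
    rw [inv_mul_cancel_left]
    exact hdQ y y.2⟩
  obtain ⟨n, hn, hn'⟩ := H759.mem_autInducedBy.1 (H759.le_autInducedBy_of_normal hQa N hN1 hN2 hN3 hαN)
  have hn2 : ∀ y ∈ Q, y * d (g y) = n * y * n⁻¹ := by
    intro y hy
    have h3 := hα' y hy
    rw [h3]
    exact hn' ⟨y, hy⟩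
  obtain ⟨l, hl⟩ := h1 P (ex χ) hAP hX
  refine ⟨l⁻¹ * n * l, fun s hs => ?_⟩
  obtain ⟨a, ha, ha2⟩ : ∃ a ∈ A, ex χ s = l * s * l⁻¹ * a := ⟨_, hl s hs, by group⟩
  have hsQ : ex χ s ∈ Q := (hQ _).2 ⟨s, hs, rfl⟩
  have h3 := hn2 _ hsQ
  rw [hg1 s hs] at h3
  have e1 : l * s * l⁻¹ = ex χ s * a⁻¹ := by rw [ha2]; group
  have e2 : l⁻¹ * n * l * s * (l⁻¹ * n * l)⁻¹ = l⁻¹ * (n * (l * s * l⁻¹) * n⁻¹) * l := by group
  have ca := cen hAL (inv_mem ha)
  have cd := cen hAL (hd s hs)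
  have e3 : n * (ex χ s * a⁻¹) * n⁻¹ = n * ex χ s * n⁻¹ * a⁻¹ := by
    rw [← mul_assoc, mul_assoc (n * ex χ s), ← ca n⁻¹, ← mul_assoc]
  rw [e2, e1, e3, ← h3, ha2]
  have e4 : l⁻¹ * (l * s * l⁻¹ * a * d s * a⁻¹) * l = s * (l⁻¹ * (a * d s * a⁻¹) * l) := by group
  rw [e4]
  congr 1
  rw [ca (a * d s), inv_mul_cancel_left, cd l⁻¹, mul_assoc, inv_mul_cancel, mul_one]

/-- a `p`-element inducing the same automorphism -/
theorem exists_pelt {p : ℕ} [Fact p.Prime] [Finite L] (hAp : IsPGroup p A) (hAL : A ≤ Subgroup.center L)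
    {P : Subgroup L} {c : L} (hc : ∀ s ∈ P, s⁻¹ * (c * s * c⁻¹) ∈ A) :
    ∃ u : L, (∃ k : ℕ, u ^ p ^ k = 1) ∧ ∀ s ∈ P, u * s * u⁻¹ = c * s * c⁻¹ := by
  have hp : p.Prime := Fact.out
  obtain ⟨m, hm⟩ := IsPGroup.iff_card.1 hAp
  -- powers
  have hpow : ∀ s ∈ P, ∀ n : ℕ, c ^ n * s * (c ^ n)⁻¹ = s * (s⁻¹ * (c * s * c⁻¹)) ^ n := by
    intro s hs n
    induction n with
    | zero => simp
    | succ n ih =>
      have h1 : c ^ (n + 1) * s * (c ^ (n + 1))⁻¹ = c * (c ^ n * s * (c ^ n)⁻¹) * c⁻¹ := by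
        rw [pow_succ']; group
      have h2 := cen hAL (pow_mem (hc s hs) n) c⁻¹
      have h3 : c * s * c⁻¹ = s * (s⁻¹ * (c * s * c⁻¹)) := by group
      rw [h1, ih]
      generalize (s⁻¹ * (c * s * c⁻¹)) = a at h2 h3
      rw [mul_assoc c, mul_assoc s, ← h2, ← mul_assoc s, ← mul_assoc c, ← mul_assoc c, h3, mul_assoc, ← pow_succ']
  obtain ⟨k, r, hr, hkr⟩ : ∃ k r : ℕ, ¬ p ∣ r ∧ orderOf c = p ^ k * r :=
    Nat.exists_eq_pow_mul_and_not_dvd (orderOf_pos c).ne' p hp.ne_one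
  have hcop : Nat.Coprime (p ^ m) r := ((Nat.Prime.coprime_iff_not_dvd hp).2 hr).pow_left m
  obtain ⟨n, hn1, hn2⟩ := Nat.chineseRemainder hcop 1 0
  refine ⟨c ^ n, ⟨k, ?_⟩, fun s hs => ?_⟩
  · obtain ⟨j, hj⟩ := (Nat.modEq_zero_iff_dvd).1 hn2
    rw [← pow_mul, hj]
    have h3 : r * j * p ^ k = orderOf c * j := by rw [hkr]; ring
    rw [h3, pow_mul, pow_orderOf_eq_one, one_pow]
  · rw [hpow s hs]
    have h4 : (s⁻¹ * (c * s * c⁻¹)) ^ (p ^ m) = 1 := by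
      rw [← hm]
      have h5 : (⟨_, hc s hs⟩ : A) ^ Nat.card A = 1 := pow_card_eq_one'
      exact congrArg Subtype.val h5
    have h6 : (s⁻¹ * (c * s * c⁻¹)) ^ n = (s⁻¹ * (c * s * c⁻¹)) ^ 1 := pow_eq_pow_of_modEq hn1 h4
    rw [h6, pow_one, mul_inv_cancel_left]

/-- a `p`-subgroup is conjugate into the Sylow subgroup -/
theorem exists_conj_le {p : ℕ} [Fact p.Prime] [Finite L] (T : Sylow p L) {H : Subgroup L} (hH : IsPGroup p H) :
    ∃ g : L, ∀ h ∈ H, g * h * g⁻¹ ∈ (T : Subgroup L) := by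
  obtain ⟨Q, hQ⟩ := hH.exists_le_sylow
  obtain ⟨g, hg⟩ := MulAction.exists_smul_eq L Q T
  refine ⟨g, fun h hh => ?_⟩
  rw [← hg]
  exact Subgroup.smul_mem_pointwise_smul h (MulAut.conj g) _ (hQ hh)

/-- **automorphisms trivial modulo `A`, from `L` to `F`** -/
theorem mp_of_conj {p : ℕ} [Fact p.Prime] [Finite L] (T : Sylow p L) (hT : (T : Subgroup L) = S)
    (hA : F.IsCentral A) (hAL : A ≤ Subgroup.center L)
    (h2 : ∀ P : Subgroup L, P ≤ S → A ≤ P → ∀ l : L, (∀ s ∈ P, l * s * l⁻¹ ∈ S) →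
      ∃ f, Mp F P f ∧ ∀ s ∈ P, (l * s * l⁻¹)⁻¹ * f s ∈ A)
    {P : Subgroup L} (hPS : P ≤ S) (hAP : A ≤ P) {c : L} (hc : ∀ s ∈ P, s⁻¹ * (c * s * c⁻¹) ∈ A) :
    Mp F P fun s => c * s * c⁻¹ := by
  classical
  have hS : IsPGroup p S := hT ▸ T.isPGroup'
  obtain ⟨u, ⟨k, hk⟩, hu⟩ := exists_pelt (hS.to_le hA.1) hAL hc
  have hcP : ∀ s ∈ P, c * s * c⁻¹ ∈ P := by
    intro s hs
    have := mul_mem hs (hAP (hc s hs))
    rwa [mul_inv_cancel_left] at this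
  have hcP' : ∀ s, c * s * c⁻¹ ∈ P → s ∈ P := by
    intro s hs
    have hfin : Finite P := inferInstance
    have hinj : Function.Injective (fun x : P => (⟨c * x * c⁻¹, hcP x x.2⟩ : P)) := by
      intro x y hxy
      have := congrArg Subtype.val hxy
      exact Subtype.ext (mul_left_cancel (mul_right_cancel this))
    obtain ⟨x, hx⟩ := (Finite.injective_iff_surjective.1 hinj) ⟨_, hs⟩
    have h3 := congrArg Subtype.val hx
    have h4 : (x : L) = s := mul_left_cancel (mul_right_cancel h3)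
    rw [← h4]
    exact x.2
  -- the `p`-group
  have hnu : u ∈ Subgroup.normalizer (P : Set L) := by
    rw [Subgroup.mem_normalizer_iff]
    intro s
    constructor
    · intro hs
      have hs' : s ∈ P := hs
      change u * s * u⁻¹ ∈ P
      rw [hu s hs']
      exact hcP s hs'
    · intro hs
      have hfin : Finite P := inferInstance
      have hinj : Function.Injective (fun x : P => (⟨u * x * u⁻¹, by rw [hu x x.2]; exact hcP x x.2⟩ : P)) := by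
        intro x y hxy
        have := congrArg Subtype.val hxy
        exact Subtype.ext (mul_left_cancel (mul_right_cancel this))
      obtain ⟨x, hx⟩ := (Finite.injective_iff_surjective.1 hinj) ⟨_, hs⟩
      have h3 := congrArg Subtype.val hx
      have h4 : (x : L) = s := mul_left_cancel (mul_right_cancel h3)
      rw [← h4]
      exact x.2
  have hup : IsPGroup p (Subgroup.zpowers u) := by
    rw [IsPGroup.iff_card]
    rw [Nat.card_zpowers]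
    exact (Nat.dvd_prime_pow Fact.out).1 (orderOf_dvd_of_pow_eq_one hk) |>.imp fun _ h => h.2
  have hH : IsPGroup p (Subgroup.zpowers u ⊔ P : Subgroup L) :=
    IsPGroup.to_sup_of_normal_right' hup (hS.to_le hPS) (by
      rw [Subgroup.zpowers_le]
      exact hnu)
  obtain ⟨g, hg⟩ := exists_conj_le T hH
  rw [hT] at hg
  obtain ⟨f, hf, hf2⟩ := h2 P hPS hAP g (fun s hs => hg s ((le_sup_right : P ≤ _) hs))
  have hn : g * u * g⁻¹ ∈ S := hg u ((le_sup_left : Subgroup.zpowers u ≤ _) (Subgroup.mem_zpowers u))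
  obtain ⟨Q, hQ, hQS, -⟩ := hf.exists_image le_rfl
  obtain ⟨f', hf', hf'1, hf'2⟩ := hf.exists_symm le_rfl hQ
  have key : ∀ s ∈ P, (g * u * g⁻¹) * f s * (g * u * g⁻¹)⁻¹ = f (c * s * c⁻¹) := by
    intro s hs
    obtain ⟨a, ha, ha2⟩ : ∃ a ∈ A, f s = g * s * g⁻¹ * a := ⟨_, hf2 s hs, by group⟩
    have hcs : c * s * c⁻¹ = s * (s⁻¹ * (c * s * c⁻¹)) := by group
    have e1 : f (c * s * c⁻¹) = f s * (s⁻¹ * (c * s * c⁻¹)) := by
      conv_lhs => rw [hcs]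
      exact mp_mul_fix hA hf hAP hs (hc s hs)
    have e2 : g * u * g⁻¹ * (g * s * g⁻¹ * a) * (g * u * g⁻¹)⁻¹ = g * (u * s * u⁻¹) * g⁻¹ * a := by
      have h3 := cen hAL ha (g * u * g⁻¹)⁻¹
      calc g * u * g⁻¹ * (g * s * g⁻¹ * a) * (g * u * g⁻¹)⁻¹
          = g * u * s * g⁻¹ * (a * (g * u * g⁻¹)⁻¹) := by group
        _ = g * u * s * g⁻¹ * ((g * u * g⁻¹)⁻¹ * a) := by rw [h3]
        _ = _ := by group
    have h4 := cen hAL (hc s hs)
    rw [e1, ha2, e2, hu s hs]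
    calc g * (c * s * c⁻¹) * g⁻¹ * a
        = g * s * (s⁻¹ * (c * s * c⁻¹)) * g⁻¹ * a := by group
      _ = g * s * (s⁻¹ * (c * s * c⁻¹)) * (g⁻¹ * a) := by group
      _ = g * s * ((g⁻¹ * a) * (s⁻¹ * (c * s * c⁻¹))) := by rw [h4 (g⁻¹ * a), mul_assoc]
      _ = _ := by group
  refine (((hf.comp (mp_conj F hQS hn) (fun s hs => (hQ _).2 ⟨s, hs, rfl⟩)).comp hf' (fun s hs => ?_))).congr
    fun s hs => ?_
  · rw [key s hs]
    exact (hQ _).2 ⟨_, hcP s hs, rfl⟩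
  · rw [key s hs, hf'1 _ (hcP s hs)]

end Cfsg.Agent.H70.Lim
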