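import Cfsg.Agent.H70.Lim.BridgeC

/-!
# S5242, I2: the untwisted embedding (helper70)

Given the untwisting function `v` of Theorem E, the map `j s = s v₀(s)⁻¹` (`v₀` = value at the base point) turns the
maps of `F` into conjugations by elements of `L`.
-/

set_option autoImplicit false

namespace Cfsg.Agent.H70.Lim

open Cfsg Cfsg.FusionSystem Cfsg.Agent.H752 MulAction

universe v

variable {L : Type v} [Group L] {S A : Subgroup L} {F : FusionSystem S}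

/-- the data of Theorem E -/
structure Unt (F : FusionSystem S) (A : Subgroup L) (e : L ⧸ S → L ⧸ S → L → L) (v : L ⧸ S → L → L) : Prop where
  good : ∀ x y, Good F A x y (e x y)
  mem : ∀ x, ∀ u ∈ stabilizer L x, v x u ∈ A
  mul : ∀ x, ∀ u ∈ stabilizer L x, ∀ w ∈ stabilizer L x, v x (u * w) = v x u * v x w
  triv : ∀ x, ∀ u ∈ A, v x u = 1
  smul : ∀ (l : L) x, ∀ u ∈ stabilizer L x, v (l • x) (l * u * l⁻¹) = v x u
  coh : ∀ x y, ∃ c : L, (∀ u ∈ stabilizer L x ⊓ stabilizer L y, c * u * c⁻¹ * u⁻¹ ∈ A) ∧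
        ∀ u ∈ stabilizer L x ⊓ stabilizer L y, e x y u * v x u = v y u * (c * u * c⁻¹ * u⁻¹)

/-- the untwisted embedding -/
def jv (v : L ⧸ S → L → L) (s : L) : L := s * (v ((1 : L) : L ⧸ S) s)⁻¹

theorem mem_stab_one {u : L} : u ∈ stabilizer L ((1 : L) : L ⧸ S) ↔ u ∈ S := by
  rw [mem_stab_coe, inv_one, one_mul, mul_one]

section

variable {e : L ⧸ S → L ⧸ S → L → L} {v : L ⧸ S → L → L}

theorem Unt.mem1 (U : Unt F A e v) {s : L} (hs : s ∈ S) : v ((1 : L) : L ⧸ S) s ∈ A := U.mem _ s (mem_stab_one.2 hs)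

theorem Unt.mul1 (U : Unt F A e v) {s t : L} (hs : s ∈ S) (ht : t ∈ S) :
    v ((1 : L) : L ⧸ S) (s * t) = v ((1 : L) : L ⧸ S) s * v ((1 : L) : L ⧸ S) t :=
  U.mul _ s (mem_stab_one.2 hs) t (mem_stab_one.2 ht)

theorem Unt.jv_mem (U : Unt F A e v) (hAS : A ≤ S) {s : L} (hs : s ∈ S) : jv v s ∈ S :=
  mul_mem hs (inv_mem (hAS (U.mem1 hs)))

theorem Unt.jv_mul (U : Unt F A e v) (hAL : A ≤ Subgroup.center L) {s t : L} (hs : s ∈ S) (ht : t ∈ S) :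
    jv v (s * t) = jv v s * jv v t := by
  unfold jv
  rw [U.mul1 hs ht]
  have h1 := cen hAL (inv_mem (U.mem1 hs)) (t * (v ((1 : L) : L ⧸ S) t)⁻¹)
  rw [mul_assoc s (v ((1 : L) : L ⧸ S) s)⁻¹, ← h1]
  group

theorem Unt.jv_mulA (U : Unt F A e v) (hAS : A ≤ S) {s a : L} (hs : s ∈ S) (ha : a ∈ A)
    (hAL : A ≤ Subgroup.center L) : jv v (s * a) = jv v s * a := by
  rw [U.jv_mul hAL hs (hAS ha)]
  congr 1
  unfold jv
  rw [U.triv _ a ha, inv_one, mul_one]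

theorem Unt.v_mulA (U : Unt F A e v) (hAS : A ≤ S) {s a : L} (hs : s ∈ S) (ha : a ∈ A) :
    v ((1 : L) : L ⧸ S) (s * a) = v ((1 : L) : L ⧸ S) s := by
  rw [U.mul1 hs (hAS ha), U.triv _ a ha, mul_one]

theorem Unt.jv_inj (U : Unt F A e v) (hAS : A ≤ S) {s t : L} (hs : s ∈ S) (ht : t ∈ S)
    (h : jv v s = jv v t) : s = t := by
  have h1 : v ((1 : L) : L ⧸ S) (jv v s) = v ((1 : L) : L ⧸ S) s := U.v_mulA hAS hs (inv_mem (U.mem1 hs))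
  have h2 : v ((1 : L) : L ⧸ S) (jv v t) = v ((1 : L) : L ⧸ S) t := U.v_mulA hAS ht (inv_mem (U.mem1 ht))
  have h3 : v ((1 : L) : L ⧸ S) s = v ((1 : L) : L ⧸ S) t := by rw [← h1, ← h2, h]
  unfold jv at h
  rw [h3] at h
  exact mul_right_cancel h

theorem Unt.jv_surj (U : Unt F A e v) (hAS : A ≤ S) {t : L} (ht : t ∈ S) :
    ∃ s ∈ S, jv v s = t := by
  refine ⟨t * v ((1 : L) : L ⧸ S) t, mul_mem ht (hAS (U.mem1 ht)), ?_⟩
  unfold jv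
  rw [U.v_mulA hAS ht (U.mem1 ht), mul_inv_cancel_right]

/-- **Lemma M** -/
theorem Unt.lemM (U : Unt F A e v) (hAS : A ≤ S) (hAL : A ≤ Subgroup.center L) {P : Subgroup L} (hPS : P ≤ S)
    {g : L} (hg : ∀ s ∈ P, g * s * g⁻¹ ∈ S) :
    ∃ (f : L → L) (c : L), Mp F P f ∧ (∀ s ∈ P, (g * s * g⁻¹)⁻¹ * f s ∈ A) ∧
      (∀ s ∈ P, c * s * c⁻¹ * s⁻¹ ∈ A) ∧ ∀ s ∈ P, jv v (f s) = g * c * jv v s * (g * c)⁻¹ := by
  obtain ⟨c, hc1, hc2⟩ := U.coh ((1 : L) : L ⧸ S) ((g⁻¹ : L) : L ⧸ S)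
  have hst : ∀ s ∈ P, s ∈ stabilizer L ((1 : L) : L ⧸ S) ⊓ stabilizer L ((g⁻¹ : L) : L ⧸ S) := by
    intro s hs
    refine ⟨mem_stab_one.2 (hPS hs), mem_stab_coe.2 ?_⟩
    rw [inv_inv]
    exact hg s hs
  have hG := U.good ((1 : L) : L ⧸ S) ((g⁻¹ : L) : L ⧸ S)
  have hm := hG.2 1 g⁻¹ rfl rfl
  set E := e ((1 : L) : L ⧸ S) ((g⁻¹ : L) : L ⧸ S) with hE
  refine ⟨fun s => g * s * g⁻¹ * E s, c, ?_, fun s hs => ?_, fun s hs => hc1 s (hst s hs), fun s hs => ?_⟩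
  · refine (hm.res (R := P) (fun s hs => ?_)).congr fun s _ => ?_
    · rw [mem_cm, one_mul, inv_one, mul_one]
      exact hst s hs
    · rw [one_mul, inv_one, mul_one, inv_inv]
  · rw [inv_mul_cancel_left]
    exact hG.1 s (hst s hs)
  · have hEA : E s ∈ A := hG.1 s (hst s hs)
    have h1 := hc2 s (hst s hs)
    have h2 : v ((g⁻¹ : L) : L ⧸ S) s = v ((1 : L) : L ⧸ S) (g * s * g⁻¹) := by
      have h3 := U.smul g ((g⁻¹ : L) : L ⧸ S) s (hst s hs).2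
      have h4 : g • ((g⁻¹ : L) : L ⧸ S) = ((1 : L) : L ⧸ S) := by
        change ((g * g⁻¹ : L) : L ⧸ S) = _
        rw [mul_inv_cancel]
      rw [h4] at h3
      exact h3.symm
    rw [h2] at h1
    unfold jv
    change g * s * g⁻¹ * E s * (v ((1 : L) : L ⧸ S) (g * s * g⁻¹ * E s))⁻¹ = _
    rw [U.v_mulA hAS (hg s hs) hEA]
    have c1 := cen hAL hEA
    have c2 := cen hAL (U.mem1 (hg s hs))
    have c3 := cen hAL (U.mem1 (hPS hs))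
    have c4 := cen hAL (hc1 s (hst s hs))
    have e1 : c * s * c⁻¹ = c * s * c⁻¹ * s⁻¹ * s := by group
    generalize v ((1 : L) : L ⧸ S) (g * s * g⁻¹) = a at *
    generalize v ((1 : L) : L ⧸ S) s = b at *
    generalize E s = ε at *
    generalize c * s * c⁻¹ * s⁻¹ = d at *
    -- `ε * b = a * d`
    have e2 : ε * a⁻¹ = d * b⁻¹ := by
      rw [mul_inv_eq_iff_eq_mul, mul_assoc, c2 (b⁻¹), ← mul_assoc, eq_mul_inv_iff_mul_eq, h1]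
      exact (c2 d).symm
    have c3' : ∀ x, b⁻¹ * x = x * b⁻¹ := fun x => by
      rw [inv_mul_eq_iff_eq_mul, ← mul_assoc, ← c3, mul_inv_cancel_right]
    calc g * s * g⁻¹ * ε * a⁻¹ = g * s * g⁻¹ * (ε * a⁻¹) := by group
      _ = g * s * (g⁻¹ * d) * b⁻¹ := by rw [e2]; group
      _ = g * (s * d) * g⁻¹ * b⁻¹ := by rw [c4 g⁻¹]; group
      _ = g * (c * s * c⁻¹) * g⁻¹ * b⁻¹ := by rw [c4 s, e1]
      _ = g * c * s * ((g * c)⁻¹ * b⁻¹) := by group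
      _ = g * c * s * (b⁻¹ * (g * c)⁻¹) := by rw [c3']
      _ = _ := by group

/-- commutators with `c⁻¹` -/
theorem inv_comm (hAL : A ≤ Subgroup.center L) {c s : L} (h : c * s * c⁻¹ * s⁻¹ ∈ A) :
    c⁻¹ * s * c = s * (c * s * c⁻¹ * s⁻¹)⁻¹ := by
  have h1 := cen hAL h
  have e2 : s * c * (c * s * c⁻¹ * s⁻¹) = c * s := by rw [h1 (s * c)]; group
  have e3 : c⁻¹ * s * c * (c * s * c⁻¹ * s⁻¹) = s := by
    rw [mul_assoc c⁻¹ s c, mul_assoc c⁻¹, e2, inv_mul_cancel_left]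
  exact eq_mul_inv_of_mul_eq e3

/-- `j (c s c⁻¹) = c (j s) c⁻¹` if `[c,s] ∈ A` -/
theorem Unt.jv_conj (U : Unt F A e v) (hAS : A ≤ S) (hAL : A ≤ Subgroup.center L) {c s : L} (hs : s ∈ S)
    (h : s⁻¹ * (c * s * c⁻¹) ∈ A) : jv v (c * s * c⁻¹) = c * jv v s * c⁻¹ := by
  have e1 : c * s * c⁻¹ = s * (s⁻¹ * (c * s * c⁻¹)) := by group
  have h1 : jv v (c * s * c⁻¹) = jv v s * (s⁻¹ * (c * s * c⁻¹)) := by
    conv_lhs => rw [e1]
    exact U.jv_mulA hAS hs h hAL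
  rw [h1]
  unfold jv
  have h2 := cen hAL (inv_mem (U.mem1 hs))
  generalize (v ((1 : L) : L ⧸ S) s)⁻¹ = b at *
  calc s * b * (s⁻¹ * (c * s * c⁻¹)) = s * (b * (s⁻¹ * (c * s * c⁻¹))) := by group
    _ = c * s * (c⁻¹ * b) := by rw [← h2]; group
    _ = c * s * (b * c⁻¹) := by rw [h2]
    _ = _ := by group

/-- maps of `F` are conjugations, sources containing `A` -/
theorem Unt.conj_of_mp {p : ℕ} [Fact p.Prime] [Finite L] (U : Unt F A e v) (hS : IsPGroup p S)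
    (hF : F.IsSaturated p) (hA : F.IsCentral A) (hAL : A ≤ Subgroup.center L)
    (h1 : ∀ (P : Subgroup L) (f : L → L), A ≤ P → Mp F P f → ∃ l : L, ∀ s ∈ P, (l * s * l⁻¹)⁻¹ * f s ∈ A)
    {P : Subgroup L} {f : L → L} (hf : Mp F P f) : ∃ g : L, ∀ s ∈ P, jv v (f s) = g * jv v s * g⁻¹ := by
  have hAS := hA.1
  obtain ⟨f', hf', hf'1, -⟩ := mp_ext_central hA hf
  suffices h : ∃ g : L, ∀ s ∈ P ⊔ A, jv v (f' s) = g * jv v s * g⁻¹ by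
    obtain ⟨g, hg⟩ := h
    exact ⟨g, fun s hs => by rw [← hf'1 s hs]; exact hg s ((le_sup_left : P ≤ P ⊔ A) hs)⟩
  have hAP : A ≤ P ⊔ A := le_sup_right
  generalize P ⊔ A = Q at *
  have hQS := hf'.le
  obtain ⟨l, hl⟩ := h1 Q f' hAP hf'
  have hlS : ∀ s ∈ Q, l * s * l⁻¹ ∈ S := by
    intro s hs
    have h2 := mul_mem (hf'.mem hs) (inv_mem (hAS (hl s hs)))
    have h3 : f' s * ((l * s * l⁻¹)⁻¹ * f' s)⁻¹ = l * s * l⁻¹ := by group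
    rwa [h3] at h2
  obtain ⟨f₁, c, hm, hf1, hc, hj⟩ := U.lemM hAS hAL hQS hlS
  obtain ⟨T, hT, -, -⟩ := hm.exists_image le_rfl
  obtain ⟨k, hk, hk1, hk2⟩ := hm.exists_symm le_rfl hT
  have hd : ∀ s ∈ Q, (f₁ s)⁻¹ * f' s ∈ A := by
    intro s hs
    have h2 := mul_mem (inv_mem (hf1 s hs)) (hl s hs)
    have h3 : ((l * s * l⁻¹)⁻¹ * f₁ s)⁻¹ * ((l * s * l⁻¹)⁻¹ * f' s) = (f₁ s)⁻¹ * f' s := by group
    rwa [h3] at h2
  have hfd : ∀ s ∈ Q, f' s = f₁ (s * ((f₁ s)⁻¹ * f' s)) := by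
    intro s hs
    rw [mp_mul_fix hA hm hAP hs (hd s hs), mul_inv_cancel_left]
  have hm2 : Mp F Q fun s => s * ((f₁ s)⁻¹ * f' s) := by
    refine (hf'.comp hk fun s hs => ?_).congr fun s hs => ?_
    · rw [hfd s hs]
      exact (hT _).2 ⟨_, mul_mem hs (hAP (hd s hs)), rfl⟩
    · rw [hfd s hs, hk1 _ (mul_mem hs (hAP (hd s hs)))]
      rw [← hfd s hs]
  obtain ⟨m, hm3⟩ := exists_conj_of_mp hS hF hA hAL h1 hAP hd hm2
  refine ⟨l * c * m, fun s hs => ?_⟩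
  have hmA : s⁻¹ * (m * s * m⁻¹) ∈ A := by
    rw [← hm3 s hs, inv_mul_cancel_left]
    exact hd s hs
  have hmQ : m * s * m⁻¹ ∈ Q := by
    rw [← hm3 s hs]
    exact mul_mem hs (hAP (hd s hs))
  rw [hfd s hs, hm3 s hs, hj _ hmQ, U.jv_conj hAS hAL (hQS hs) hmA]
  group

/-- conjugations are maps of `F`, sources containing `A` -/
theorem Unt.mp_of_conj {p : ℕ} [Fact p.Prime] [Finite L] (U : Unt F A e v) (T : Sylow p L)
    (hT : (T : Subgroup L) = S) (hA : F.IsCentral A) (hAL : A ≤ Subgroup.center L)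
    (h2 : ∀ P : Subgroup L, P ≤ S → A ≤ P → ∀ l : L, (∀ s ∈ P, l * s * l⁻¹ ∈ S) →
      ∃ f, Mp F P f ∧ ∀ s ∈ P, (l * s * l⁻¹)⁻¹ * f s ∈ A)
    {P : Subgroup L} (hPS : P ≤ S) (hAP : A ≤ P) {f : L → L} (hfS : ∀ s ∈ P, f s ∈ S) {g : L}
    (hg : ∀ s ∈ P, jv v (f s) = g * jv v s * g⁻¹) : Mp F P f := by
  have hAS := hA.1
  have hgS : ∀ s ∈ P, g * s * g⁻¹ ∈ S := by
    intro s hs
    have h3 := hg s hs
    have h4 := cen hAL (U.mem1 (hPS hs)) (g⁻¹)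
    have h5 : g * s * g⁻¹ = jv v (f s) * v ((1 : L) : L ⧸ S) s := by
      rw [h3]
      unfold jv
      rw [mul_assoc _ g⁻¹, h4]
      group
    rw [h5]
    exact mul_mem (U.jv_mem hAS (hfS s hs)) (hAS (U.mem1 (hPS hs)))
  obtain ⟨f₁, c, hm, hf1, hc, hj⟩ := U.lemM hAS hAL hPS hgS
  have hcA : ∀ s ∈ P, s⁻¹ * (c⁻¹ * s * c⁻¹⁻¹) ∈ A := by
    intro s hs
    rw [inv_inv, inv_comm hAL (hc s hs), inv_mul_cancel_left]
    exact inv_mem (hc s hs)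
  have hcP : ∀ s ∈ P, c⁻¹ * s * c⁻¹⁻¹ ∈ P := by
    intro s hs
    have h3 := mul_mem hs (hAP (hcA s hs))
    rwa [mul_inv_cancel_left] at h3
  have hk := Lim.mp_of_conj T hT hA hAL h2 hPS hAP hcA
  refine (hk.comp hm hcP).congr fun s hs => ?_
  refine U.jv_inj hAS (hfS s hs) (hm.mem (hcP s hs)) ?_
  rw [hj _ (hcP s hs), U.jv_conj hAS hAL (hPS hs) (hcA s hs), hg s hs]
  group

/-- **the untwisted embedding realizes `F`** -/
theorem Unt.mp_iff {p : ℕ} [Fact p.Prime] [Finite L] (U : Unt F A e v) (T : Sylow p L)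
    (hT : (T : Subgroup L) = S) (hF : F.IsSaturated p) (hA : F.IsCentral A) (hAL : A ≤ Subgroup.center L)
    (h1 : ∀ (P : Subgroup L) (f : L → L), A ≤ P → Mp F P f → ∃ l : L, ∀ s ∈ P, (l * s * l⁻¹)⁻¹ * f s ∈ A)
    (h2 : ∀ P : Subgroup L, P ≤ S → A ≤ P → ∀ l : L, (∀ s ∈ P, l * s * l⁻¹ ∈ S) →
      ∃ f, Mp F P f ∧ ∀ s ∈ P, (l * s * l⁻¹)⁻¹ * f s ∈ A)
    {P : Subgroup L} (hPS : P ≤ S) {f : L → L} (hfS : ∀ s ∈ P, f s ∈ S) :
    Mp F P f ↔ ∃ g : L, ∀ s ∈ P, jv v (f s) = g * jv v s * g⁻¹ := by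
  have hAS := hA.1
  have hS : IsPGroup p S := hT ▸ T.isPGroup'
  refine ⟨fun hf => U.conj_of_mp hS hF hA hAL h1 hf, ?_⟩
  rintro ⟨g, hg⟩
  -- extension to `P A`
  have hPA : P ⊔ A ≤ S := sup_le hPS hAS
  have hmem : ∀ s ∈ P ⊔ A, g * jv v s * g⁻¹ ∈ S := by
    intro s hs
    have : A.Normal := ⟨fun a ha x => by rw [conj_A hAL ha]; exact ha⟩
    obtain ⟨s₀, hs₀, a, ha, rfl⟩ := Subgroup.mem_sup_of_normal_right.1 hs
    have h3 : g * jv v (s₀ * a) * g⁻¹ = jv v (f s₀) * a := by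
      rw [U.jv_mulA hAS (hPS hs₀) ha hAL, hg s₀ hs₀]
      have h4 := cen hAL ha g⁻¹
      rw [← mul_assoc g, mul_assoc (g * jv v s₀) a, ← h4, ← mul_assoc]
    rw [h3]
    exact mul_mem (U.jv_mem hAS (hfS s₀ hs₀)) (hAS ha)
  have hex : ∀ s ∈ P ⊔ A, ∃ t ∈ S, jv v t = g * jv v s * g⁻¹ := fun s hs => U.jv_surj hAS (hmem s hs)
  choose! k hk1 hk2 using hex
  have h3 := U.mp_of_conj T hT hA hAL h2 hPA le_sup_right hk1 hk2
  refine (h3.res le_sup_left).congr fun s hs => ?_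
  have hs' : s ∈ P ⊔ A := (le_sup_left : P ≤ P ⊔ A) hs
  exact U.jv_inj hAS (hfS s hs) (hk1 s hs') (by rw [hk2 s hs', hg s hs])

end

end Cfsg.Agent.H70.Lim
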