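import Cfsg.Agent.H70.Lim.BridgeM
import Cfsg.Agent.H758.TransSys
import Cfsg.Agent.H539.Lim.Defs

/-!
# S5242, I2: the bridge (helper70)

A saturated fusion system with a central subgroup `A` agreeing modulo `A` with a finite group `L` (with `A` central and
the same Sylow subgroup) is realizable (given Theorem E, taken as hypothesis here).
-/

set_option autoImplicit false

namespace Cfsg.Agent.H70.Lim

open Cfsg Cfsg.FusionSystem Cfsg.Agent.H752 MulAction Cfsg.Agent.H539.Lim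

universe u v w

/-- the statement of Theorem E for `L` acting on `Ω` -/
def ThmE (p : ℕ) (L : Type u) [Group L] (Ω : Type v) [MulAction L Ω] : Prop :=
  PSet p L Ω → ∀ (A : Subgroup L), A ≤ Subgroup.center L → IsPGroup p A →
    (∀ x : Ω, A ≤ stabilizer L x) → ∀ (e : Ω → Ω → L → L),
    (∀ x y, ∀ u ∈ stabilizer L x ⊓ stabilizer L y, e x y u ∈ A) →
    (∀ x y, ∀ u ∈ stabilizer L x ⊓ stabilizer L y, ∀ w ∈ stabilizer L x ⊓ stabilizer L y,
      e x y (u * w) = e x y u * e x y w) →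
    (∀ x y, ∀ u ∈ A, e x y u = 1) →
    (∀ (l : L) x y, ∀ u ∈ stabilizer L x ⊓ stabilizer L y, e (l • x) (l • y) (l * u * l⁻¹) = e x y u) →
    (∀ x y z, ∃ c : L, (∀ u ∈ stabilizer L x ⊓ stabilizer L y ⊓ stabilizer L z, c * u * c⁻¹ * u⁻¹ ∈ A) ∧
      ∀ u ∈ stabilizer L x ⊓ stabilizer L y ⊓ stabilizer L z,
        e x y u * e y z u = e x z u * (c * u * c⁻¹ * u⁻¹)) →
    ∃ v : Ω → L → L, (∀ x, ∀ u ∈ stabilizer L x, v x u ∈ A) ∧
      (∀ x, ∀ u ∈ stabilizer L x, ∀ w ∈ stabilizer L x, v x (u * w) = v x u * v x w) ∧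
      (∀ x, ∀ u ∈ A, v x u = 1) ∧
      (∀ (l : L) x, ∀ u ∈ stabilizer L x, v (l • x) (l * u * l⁻¹) = v x u) ∧
      ∀ x y, ∃ c : L, (∀ u ∈ stabilizer L x ⊓ stabilizer L y, c * u * c⁻¹ * u⁻¹ ∈ A) ∧
        ∀ u ∈ stabilizer L x ⊓ stabilizer L y, e x y u * v x u = v y u * (c * u * c⁻¹ * u⁻¹)

section

variable {L : Type v} [Group L] {S A : Subgroup L} {F : FusionSystem S}

theorem pset {p : ℕ} [Fact p.Prime] [Finite L] (T : Sylow p L) (hT : (T : Subgroup L) = S) :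
    PSet p L (L ⧸ S) := by
  have hS : IsPGroup p S := hT ▸ T.isPGroup'
  constructor
  · intro x
    obtain ⟨r, rfl⟩ := QuotientGroup.mk_surjective x
    have h1 : stabilizer L (r : L ⧸ S) ≤ S.map (MulAut.conj r).toMonoidHom := by
      intro u hu
      refine ⟨_, mem_stab_coe.1 hu, ?_⟩
      change r * (r⁻¹ * u * r) * r⁻¹ = u
      group
    exact (hS.map _).to_le h1
  · intro P hP
    obtain ⟨g, hg⟩ := exists_conj_le T hP
    refine ⟨((g⁻¹ : L) : L ⧸ S), fun u hu => mem_stab_coe.2 ?_⟩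
    rw [inv_inv, ← hT]
    exact hg u hu

theorem exists_unt {p : ℕ} [Fact p.Prime] [Finite L] (T : Sylow p L)
    (hT : (T : Subgroup L) = S) (hF : F.IsSaturated p) (hA : F.IsCentral A) (hAL : A ≤ Subgroup.center L)
    (h1 : ∀ (P : Subgroup L) (f : L → L), A ≤ P → Mp F P f → ∃ l : L, ∀ s ∈ P, (l * s * l⁻¹)⁻¹ * f s ∈ A)
    (h2 : ∀ P : Subgroup L, P ≤ S → A ≤ P → ∀ l : L, (∀ s ∈ P, l * s * l⁻¹ ∈ S) →
      ∃ f, Mp F P f ∧ ∀ s ∈ P, (l * s * l⁻¹)⁻¹ * f s ∈ A)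
    (hE : ThmE p L (L ⧸ S)) : ∃ e v, Unt F A e v := by
  have hS : IsPGroup p S := hT ▸ T.isPGroup'
  obtain ⟨e, he, he2⟩ := exists_e hA hAL h2
  obtain ⟨v, hv1, hv2, hv3, hv4, hv5⟩ := hE (pset T hT) A hAL (hS.to_le hA.1) (A_le_stab hA.1 hAL) e
    (fun x y => (he x y).1) (fun x y u hu w hw => (he x y).mul hAL hu hw)
    (fun x y u hu => (he x y).fixA hA hAL hu) he2
    (fun x y z => coc hS hF hA hAL h1 (he x y) (he y z) (he x z))
  exact ⟨e, v, he, hv1, hv2, hv3, hv4, hv5⟩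

end

section

variable {W : Type u} [Group W] {S : Subgroup W} {L : Type v} [Group L] {ι : S →* L} {hι : Function.Injective ι}
  {F : FusionSystem S} {T : Subgroup L} {F' : FusionSystem T} {C : FusionSystem (⊤ : Subgroup S)}

theorem exists_fn (hι : Function.Injective ι) {P : Subgroup W} (hP : P ≤ S) (φ : P → W) (hφ : ∀ x, φ x ∈ S) :
    ∃ f : L → L, ∀ x : P, f (ι ⟨x, hP x.2⟩) = ι ⟨φ x, hφ x⟩ := by
  classical
  refine ⟨fun y => if h : ∃ x : P, ι ⟨x, hP x.2⟩ = y then ι ⟨φ h.choose, hφ _⟩ else 1, fun x => ?_⟩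
  have h : ∃ x' : P, ι ⟨x', hP x'.2⟩ = ι ⟨x, hP x.2⟩ := ⟨x, rfl⟩
  beta_reduce
  rw [dif_pos h]
  have h1 := hι h.choose_spec
  have h2 : h.choose = x := Subtype.ext (Subtype.mk.inj h1)
  congr 2
  rw [h2]

theorem mp_trans (hC : H759.IsPush (Subgroup.subtype_injective S) C F) (hD : H759.IsPush hι C F')
    {P : Subgroup W} (hP : P ≤ S) (φ : P →* W) (hφ : ∀ x, φ x ∈ S) {f : L → L}
    (hf : ∀ x : P, f (ι ⟨x, hP x.2⟩) = ι ⟨φ x, hφ x⟩) :
    φ ∈ F.Hom P ↔ Mp F' ((P.subgroupOf S).map ι) f := by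
  have e1 : (P.subgroupOf S).map S.subtype = P := Subgroup.map_subgroupOf_eq_of_le hP
  constructor
  · intro h
    have h1 : Mp F ((P.subgroupOf S).map S.subtype) (ex φ) := by
      rw [e1]
      exact mp_ex h
    obtain ⟨g₁, hg₁, hg⟩ := (H758.mp_push_iff hC).1 h1
    refine (H758.mp_push_iff hD).2 ⟨g₁, hg₁, fun x hx => ?_⟩
    have h2 := hg x hx
    have hx' : (x : W) ∈ P := hx
    have h3 := hf ⟨x, hx'⟩
    have h4 : ex φ (S.subtype x) = φ ⟨x, hx'⟩ := ex_apply _ hx'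
    rw [h4] at h2
    change f (ι x) = _ at h3
    rw [h3]
    congr 1
    exact Subtype.ext h2
  · intro h
    obtain ⟨g₁, hg₁, hg⟩ := (H758.mp_push_iff hD).1 h
    have h1 : Mp F ((P.subgroupOf S).map S.subtype) (ex φ) := by
      refine (H758.mp_push_iff hC).2 ⟨g₁, hg₁, fun x hx => ?_⟩
      have h2 := hg x hx
      have hx' : (x : W) ∈ P := hx
      have h3 := hf ⟨x, hx'⟩
      have h4 : ex φ (S.subtype x) = φ ⟨x, hx'⟩ := ex_apply _ hx'
      rw [h4]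
      change f (ι x) = _ at h3
      rw [h2] at h3
      exact (congrArg Subtype.val (hι h3)).symm
    rw [e1] at h1
    exact h1.mem_hom fun x hx => (ex_apply φ hx).symm

theorem exists_src (hC : H759.IsPush (Subgroup.subtype_injective S) C F) (hD : H759.IsPush hι C F')
    {P' : Subgroup L} {f : L → L} (hf : Mp F' P' f) : ∃ (P : Subgroup W) (hP : P ≤ S) (φ : P →* W) (hφ : ∀ x, φ x ∈ S),
    P' = (P.subgroupOf S).map ι ∧ φ ∈ F.Hom P ∧ ∀ x : P, f (ι ⟨x, hP x.2⟩) = ι ⟨φ x, hφ x⟩ := by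
  classical
  obtain ⟨Q, rfl, -⟩ := hD.exists_source hf.le
  obtain ⟨g₁, hg₁, hg⟩ := (H758.mp_push_iff hD).1 hf
  have h1 : Mp F (Q.map S.subtype) (fun x => if hx : x ∈ S then (g₁ ⟨x, hx⟩ : W) else 1) := by
    refine (H758.mp_push_iff hC).2 ⟨g₁, hg₁, fun x hx => ?_⟩
    change (if hx : (x : W) ∈ S then (g₁ ⟨x, hx⟩ : W) else 1) = _
    rw [dif_pos x.2]
    rfl
  obtain ⟨φ, hφ, hφ2⟩ := h1
  have hQS : Q.map S.subtype ≤ S := Subgroup.map_subtype_le Q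
  have hval : ∀ x : Q.map S.subtype, φ x = g₁ ⟨x, hQS x.2⟩ := by
    intro x
    have h2 := hφ2 x x.2
    have h3 := hQS x.2
    beta_reduce at h2
    rw [dif_pos h3] at h2
    exact h2
  refine ⟨Q.map S.subtype, hQS, φ, fun x => (F.le_of_mem hφ).2 x, ?_, hφ, fun x => ?_⟩
  · congr 1
    ext x
    exact ⟨fun hx => ⟨x, hx, rfl⟩, by rintro ⟨y, hy, hyx⟩; rw [← Subtype.ext hyx]; exact hy⟩
  · obtain ⟨y, hy, hyx⟩ := x.2
    have h4 : (⟨x, hQS x.2⟩ : S) ∈ Q := by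
      have : y = ⟨x, hQS x.2⟩ := Subtype.ext hyx
      rwa [← this]
    rw [hg _ h4]
    congr 1
    exact Subtype.ext (hval x).symm

end

/-- a system realized in a finite group of any universe is realizable -/
theorem realizable_of_finite {W : Type u} [Group W] {S : Subgroup W} {F : FusionSystem S} {p : ℕ} [Fact p.Prime]
    {G : Type v} [Group G] [Finite G] (ι : S →* G) (hF : F.IsRealizedBy ι)
    (hT : ∃ T : Sylow p G, (T : Subgroup G) = ι.range) : F.IsRealizable p := by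
  obtain ⟨T, hT⟩ := hT
  let E : Shrink.{u} G ≃* G := Shrink.mulEquiv
  refine ⟨Shrink.{u} G, inferInstance, inferInstance, E.symm.toMonoidHom.comp ι, ⟨?_, ?_⟩, ?_⟩
  · exact E.symm.injective.comp hF.1
  · intro P hP φ hφ
    rw [hF.2 P hP φ hφ]
    constructor
    · rintro ⟨g, hg⟩
      refine ⟨E.symm g, fun x => ?_⟩
      change E.symm (ι _) = E.symm g * E.symm (ι _) * (E.symm g)⁻¹
      rw [hg x, map_mul, map_mul, map_inv]
    · rintro ⟨g, hg⟩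
      refine ⟨E g, fun x => ?_⟩
      have h1 := congrArg E (hg x)
      change E (E.symm (ι _)) = E (g * E.symm (ι _) * g⁻¹) at h1
      rwa [map_mul, map_mul, map_inv, MulEquiv.apply_symm_apply, MulEquiv.apply_symm_apply] at h1
  · have hsurj : Function.Surjective E.symm.toMonoidHom := E.symm.surjective
    refine ⟨T.mapSurjective hsurj, ?_⟩
    rw [Sylow.coe_mapSurjective, hT, MonoidHom.range_comp]

theorem bridge_aux {p : ℕ} [Fact p.Prime] {W : Type u} [Group W] {S : Subgroup W} [Finite S] (_hS : IsPGroup p S)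
    (F : Cfsg.FusionSystem S) (hF : F.IsSaturated p) (A : Subgroup W) (hA : F.IsCentral A)
    {L : Type v} [Group L] [Finite L] (ι : S →* L) (hι : Function.Injective ι)
    (T : Sylow p L) (hT : (T : Subgroup L) = ι.range) (hAL : (A.subgroupOf S).map ι ≤ Subgroup.center L)
    (h1 : ∀ (P : Subgroup W) (hP : P ≤ S) (φ : P →* W) (hφS : ∀ s : P, φ s ∈ S), A ≤ P → φ ∈ F.Hom P →
      ∃ l : L, ∀ s : P, (l * ι ⟨s, hP s.2⟩ * l⁻¹)⁻¹ * ι ⟨φ s, hφS s⟩ ∈ (A.subgroupOf S).map ι)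
    (h2 : ∀ (P : Subgroup W) (hP : P ≤ S), A ≤ P → ∀ l : L, (∀ s : P, l * ι ⟨s, hP s.2⟩ * l⁻¹ ∈ ι.range) →
      ∃ (φ : P →* W) (hφS : ∀ s : P, φ s ∈ S), φ ∈ F.Hom P ∧
        ∀ s : P, (l * ι ⟨s, hP s.2⟩ * l⁻¹)⁻¹ * ι ⟨φ s, hφS s⟩ ∈ (A.subgroupOf S).map ι)
    (hE : ThmE p L (L ⧸ (T : Subgroup L))) :
    F.IsRealizable p := by
  classical
  obtain ⟨C, hC⟩ := H759.exists_pull' (hf := Subgroup.subtype_injective S)
    (T₁ := (⊤ : Subgroup S)) (T₂ := S) (by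
      rw [← MonoidHom.range_eq_map, Subgroup.range_subtype]) F
  obtain ⟨F', hD⟩ := H759.exists_push' (hf := hι) (T₁ := (⊤ : Subgroup S)) (T₂ := (T : Subgroup L)) (by
      rw [← MonoidHom.range_eq_map, hT]) C
  have hF' : F'.IsSaturated p := hD.isSaturated_iff.2 (hC.isSaturated_iff.1 hF)
  have hAS : A ≤ S := hA.1
  have hA' : F'.IsCentral ((A.subgroupOf S).map ι) := by
    refine hD.isCentral_iff.2 (hC.isCentral_iff.1 ?_)
    rw [Subgroup.map_subgroupOf_eq_of_le hAS]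
    exact hA
  set A' := (A.subgroupOf S).map ι with hA'def
  have hAP : ∀ {P : Subgroup W}, P ≤ S → (A' ≤ (P.subgroupOf S).map ι ↔ A ≤ P) := by
    intro P hP
    rw [hA'def, H759.map_le_map hι]
    constructor
    · intro h a ha
      exact h (x := ⟨a, hAS ha⟩) ha
    · intro h a ha
      exact h ha
  have h1' : ∀ (P : Subgroup L) (f : L → L), A' ≤ P → Mp F' P f → ∃ l : L, ∀ s ∈ P, (l * s * l⁻¹)⁻¹ * f s ∈ A' := by
    intro P' f hAP' hf
    obtain ⟨P, hP, φ, hφ, rfl, hφF, hφf⟩ := exists_src hC hD hf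
    obtain ⟨l, hl⟩ := h1 P hP φ hφ ((hAP hP).1 hAP') hφF
    refine ⟨l, ?_⟩
    rintro _ ⟨x, hx, rfl⟩
    have h3 := hl ⟨x, hx⟩
    rw [← hφf ⟨x, hx⟩] at h3
    exact h3
  have h2' : ∀ P : Subgroup L, P ≤ (T : Subgroup L) → A' ≤ P → ∀ l : L, (∀ s ∈ P, l * s * l⁻¹ ∈ (T : Subgroup L)) →
      ∃ f, Mp F' P f ∧ ∀ s ∈ P, (l * s * l⁻¹)⁻¹ * f s ∈ A' := by
    intro P' hP' hAP' l hl
    obtain ⟨P, hP, φ, hφ, rfl, -, -⟩ := exists_src hC hD (mp_id F' hP')
    rw [hT] at hl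
    obtain ⟨ψ, hψ, hψF, hψl⟩ := h2 P hP ((hAP hP).1 hAP') l (fun s => hl _ ⟨⟨s, hP s.2⟩, s.2, rfl⟩)
    obtain ⟨f, hf⟩ := exists_fn hι hP ψ hψ
    refine ⟨f, (mp_trans hC hD hP ψ hψ hf).1 hψF, ?_⟩
    rintro _ ⟨x, hx, rfl⟩
    have h3 := hψl ⟨x, hx⟩
    rw [← hf ⟨x, hx⟩] at h3
    exact h3
  obtain ⟨e, v, U⟩ := exists_unt T rfl hF' hA' hAL h1' h2' hE
  have hιT : ∀ x : S, ι x ∈ (T : Subgroup L) := fun x => by rw [hT]; exact ⟨x, rfl⟩
  let j : S →* L :=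
    { toFun := fun x => jv v (ι x)
      map_one' := by
        have h3 := U.jv_mul hAL (one_mem (T : Subgroup L)) (one_mem (T : Subgroup L))
        rw [one_mul] at h3
        rw [map_one]
        exact mul_eq_left.1 h3.symm
      map_mul' := fun x y => by rw [map_mul, U.jv_mul hAL (hιT x) (hιT y)] }
  refine realizable_of_finite j ⟨fun x y hxy => hι (U.jv_inj hA'.1 (hιT x) (hιT y) hxy), ?_⟩ ⟨T, ?_⟩
  · intro P hP φ hφ
    obtain ⟨f, hf⟩ := exists_fn hι hP φ hφ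
    have hPT : (P.subgroupOf S).map ι ≤ (T : Subgroup L) := by
      rintro _ ⟨x, -, rfl⟩
      exact hιT x
    rw [mp_trans hC hD hP φ hφ hf, U.mp_iff T rfl hF' hA' hAL h1' h2' hPT (by
      rintro _ ⟨x, hx, rfl⟩
      have h3 := hf ⟨x, hx⟩
      change f (ι x) = _ at h3
      rw [h3]
      exact hιT _)]
    constructor
    · rintro ⟨g, hg⟩
      refine ⟨g, fun x => ?_⟩
      have h3 := hg (ι ⟨x, hP x.2⟩) ⟨_, x.2, rfl⟩
      rw [hf x] at h3
      exact h3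
    · rintro ⟨g, hg⟩
      refine ⟨g, ?_⟩
      rintro _ ⟨x, hx, rfl⟩
      have h3 := hg ⟨x, hx⟩
      change jv v (ι _) = g * jv v (ι x) * g⁻¹ at h3
      have h4 := hf ⟨x, hx⟩
      change f (ι x) = _ at h4
      rw [h4]
      exact h3
  · ext y
    constructor
    · intro hy
      obtain ⟨t, ht, rfl⟩ := U.jv_surj hA'.1 hy
      rw [hT] at ht
      obtain ⟨x, rfl⟩ := ht
      exact ⟨x, rfl⟩
    · rintro ⟨x, rfl⟩
      exact U.jv_mem hA'.1 (hιT x)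

end Cfsg.Agent.H70.Lim
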